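import Cfsg.Agent.Lib.BrauerSuzuki.Basic
import Cfsg.Agent.Lib.FGStruct.AbelianCyclic

/-!
2-groups with a central quotient having exactly one involution.
-/

set_option autoImplicit false
set_option linter.unusedSectionVars false
set_option linter.style.haveILetI false

namespace Cfsg.Agent.UniqueInvol

/-- A non-abelian 2-group with one involution has a cyclic subgroup of index two with all other
elements of order four. -/
theorem exists_cyclic {R : Type*} [Group R] [Finite R] (hR : IsPGroup 2 R)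
    (hna : ¬ IsMulCommutative R) (hu : ∃! x : R, orderOf x = 2) :
    ∃ a : R, (Subgroup.zpowers a).index = 2 ∧ 4 ≤ orderOf a ∧
      ∀ g, g ∉ Subgroup.zpowers a → orderOf g = 4 := by
  haveI : Fact (Nat.Prime 2) := ⟨Nat.prime_two⟩
  have h1 : BrauerSuzuki.RankOne R := fun x y hx hy _ => hu.unique hx hy
  have hp : IsPGroup 2 (⊤ : Subgroup R) := hR.to_subgroup ⊤
  rcases AbCyc.structure_of_pGroup (BrauerSuzuki.abCyclic h1 hp) hp with h | ⟨-, A, -, hA, hi, h4, ho, -⟩
  · exfalso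
    haveI := h
    letI : CommGroup (⊤ : Subgroup R) := IsCyclic.commGroup
    exact hna ⟨⟨fun x y => congrArg Subtype.val
      (mul_comm (⟨x, Subgroup.mem_top x⟩ : (⊤ : Subgroup R)) ⟨y, Subgroup.mem_top y⟩)⟩⟩
  · obtain ⟨c, hc⟩ := (Subgroup.isCyclic_iff_exists_zpowers_eq_top A).1 hA
    subst hc
    refine ⟨(c : R), ?_, ?_, fun g hg => ?_⟩
    · have hmap : (Subgroup.zpowers c).map (⊤ : Subgroup R).subtype = Subgroup.zpowers (c : R) :=
        MonoidHom.map_zpowers _ _
      have := Subgroup.index_map_subtype (Subgroup.zpowers c)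
      rw [hmap, hi, Subgroup.index_top, mul_one] at this
      exact this
    · rw [Nat.card_zpowers, ← Subgroup.orderOf_coe] at h4; exact h4
    · rw [← ho ⟨g, Subgroup.mem_top g⟩ fun h => hg ?_]
      · exact (Subgroup.orderOf_mk g _).symm
      · obtain ⟨k, hk⟩ := Subgroup.mem_zpowers_iff.1 h
        exact ⟨k, congrArg Subtype.val hk⟩

variable {S : Type*} [Group S] [Finite S]

/-- Lifting: generators modulo the centre. -/
theorem exists_lift (hS : IsPGroup 2 S) (N : Subgroup S) [N.Normal]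
    (hna : ¬ IsMulCommutative (S ⧸ N)) (hu : ∃! x : S ⧸ N, orderOf x = 2) :
    ∃ a : S, (∀ g h : S, (g : S ⧸ N) ∉ Subgroup.zpowers (a : S ⧸ N) →
        (h : S ⧸ N) ∉ Subgroup.zpowers (a : S ⧸ N) →
        ((g * h : S) : S ⧸ N) ∈ Subgroup.zpowers (a : S ⧸ N)) ∧
      4 ≤ orderOf (a : S ⧸ N) ∧
      ∀ g : S, (g : S ⧸ N) ∉ Subgroup.zpowers (a : S ⧸ N) → orderOf (g : S ⧸ N) = 4 := by
  obtain ⟨c, hi, h4, ho⟩ := exists_cyclic (hS.to_quotient N) hna hu
  induction c using QuotientGroup.induction_on with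
  | _ a =>
  refine ⟨a, fun g h hg hh => ?_, h4, fun g => ho _⟩
  rw [QuotientGroup.mk_mul, Subgroup.mul_mem_iff_of_index_two hi]
  exact iff_of_false hg hh

theorem mem_zpowers_mk {N : Subgroup S} [N.Normal] {a g : S}
    (h : (g : S ⧸ N) ∈ Subgroup.zpowers (a : S ⧸ N)) : ∃ (k : ℤ) (n : S), n ∈ N ∧ g = a ^ k * n := by
  obtain ⟨k, hk⟩ := Subgroup.mem_zpowers_iff.1 h
  rw [← QuotientGroup.mk_zpow, QuotientGroup.eq] at hk
  exact ⟨k, (a ^ k)⁻¹ * g, hk, (mul_inv_cancel_left _ g).symm⟩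

end Cfsg.Agent.UniqueInvol
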