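import Cfsg.Agent.Lib.UniqueInvol.SL2Sub

/-!
SL_2 in odd characteristic is not a central product of two proper subgroups.
-/

set_option autoImplicit false

namespace Cfsg.Agent.UniqueInvol

open Matrix

variable {F : Type*} [Field F] [Fintype F]

local notation "S" => Matrix.SpecialLinearGroup (Fin 2) F

theorem commute_sign (h2 : (2 : F) ≠ 0) {d g : S} (ht : g.1.trace ≠ 0)
    (h : d * g * d⁻¹ * g⁻¹ ∈ Subgroup.center S) : Commute d g := by
  rcases SL2Inv.mem_center_iff.1 h with e | e
  · exact mul_inv_eq_iff_eq_mul.1 (mul_inv_eq_one.1 e)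
  · exfalso
    have h1 := congrArg (fun x : S => x.1.trace) (mul_inv_eq_iff_eq_mul.1 e)
    simp only [SL2Inv.trace_conj, SL2Inv.trace_negOne_mul] at h1
    have : (2 : F) * g.1.trace = 0 := by linear_combination h1
    exact ht ((mul_eq_zero.1 this).resolve_left h2)

theorem mem_center_of_sign (h2 : (2 : F) ≠ 0) {d : S}
    (h : ∀ g, d * g * d⁻¹ * g⁻¹ ∈ Subgroup.center S) : d ∈ Subgroup.center S := by
  let u : S := ⟨!![1, 1; 0, 1], by simp [Matrix.det_fin_two]⟩
  let l : S := ⟨!![1, 0; 1, 1], by simp [Matrix.det_fin_two]⟩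
  have hu := commute_sign h2 (g := u) (by simp [u, Matrix.trace_fin_two, one_add_one_eq_two, h2]) (h u)
  have hl := commute_sign h2 (g := l) (by simp [l, Matrix.trace_fin_two, one_add_one_eq_two, h2]) (h l)
  have e1 : d.1 * u.1 = u.1 * d.1 := by
    rw [← Matrix.SpecialLinearGroup.coe_mul, ← Matrix.SpecialLinearGroup.coe_mul, hu.eq]
  have e2 : d.1 * l.1 = l.1 * d.1 := by
    rw [← Matrix.SpecialLinearGroup.coe_mul, ← Matrix.SpecialLinearGroup.coe_mul, hl.eq]
  have a1 := congrFun (congrFun e1 0) 0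
  have a2 := congrFun (congrFun e1 0) 1
  have b1 := congrFun (congrFun e2 0) 0
  simp [u, l, Matrix.mul_apply, Fin.sum_univ_two] at a1 a2 b1
  refine SL2Orders.mem_center_of_scalar d (d.1 0 0) ?_
  ext i j
  fin_cases i <;> fin_cases j
  · simp
  · simp; linear_combination b1
  · simp; linear_combination a1
  · simp; linear_combination -a2

/-- If `B` is sign-centralised by a normal `A` with `A B` everything and `A` containing the elements of
trace zero, then `B` is central. -/
theorem le_center_of_trace (h2 : (2 : F) ≠ 0) (A B : Subgroup S) [B.Normal]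
    (hD : A ⊓ B ≤ Subgroup.center S) (hc : ∀ a ∈ A, ∀ b ∈ B, a * b * a⁻¹ * b⁻¹ ∈ Subgroup.center S)
    (hT : ∀ g : S, g.1.trace = 0 → g ∈ A) : B ≤ Subgroup.center S := by
  intro b hb
  have hsq : ∀ x ∈ B, Commute (x * x) (SL2Inv.w : S) := by
    intro x hx
    have h := hc _ (hT _ SL2Inv.trace_w) x hx
    rcases SL2Inv.mem_center_iff.1 h with e | e
    · have : Commute (SL2Inv.w : S) x := mul_inv_eq_iff_eq_mul.1 (mul_inv_eq_one.1 e)
      exact (this.symm.mul_left this.symm)
    · have e1 : (SL2Inv.w : S) * x = SL2Inv.negOne * x * SL2Inv.w := by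
        rw [← mul_inv_eq_iff_eq_mul.1 e, inv_mul_cancel_right]
      show x * x * SL2Inv.w = SL2Inv.w * (x * x)
      symm
      calc (SL2Inv.w : S) * (x * x) = SL2Inv.negOne * x * ((SL2Inv.w : S) * x) := by
            rw [← mul_assoc (SL2Inv.w : S) x x, e1]; simp only [mul_assoc]; rw [e1]; simp only [mul_assoc]
        _ = (SL2Inv.negOne * x) * (SL2Inv.negOne * x) * SL2Inv.w := by
            rw [e1]; simp only [← mul_assoc]
        _ = x * x * SL2Inv.w := by
          rw [(show Commute x (SL2Inv.negOne : S) from (SL2Inv.negOne_comm x).symm).mul_mul_mul_comm,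
            SL2Inv.negOne_mul_self, one_mul]
  let u : S := ⟨!![1, 1; 0, 1], by simp [Matrix.det_fin_two]⟩
  have hw1 : Commute (b * b) (SL2Inv.w : S) := hsq b hb
  have hw2 : Commute (u * (b * b) * u⁻¹) (SL2Inv.w : S) := by
    have := hsq (u * b * u⁻¹) ((inferInstance : B.Normal).conj_mem b hb u)
    rwa [show u * b * u⁻¹ * (u * b * u⁻¹) = u * (b * b) * u⁻¹ by group] at this
  let ui : S := ⟨!![1, -1; 0, 1], by simp [Matrix.det_fin_two]⟩
  have hui1 : u.1 * ui.1 = 1 := by
    ext i j; fin_cases i <;> fin_cases j <;> simp [u, ui, Matrix.mul_apply, Fin.sum_univ_two]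
  have hui : u⁻¹ = ui := inv_eq_of_mul_eq_one_right (Subtype.ext (by
    rw [Matrix.SpecialLinearGroup.coe_mul, Matrix.SpecialLinearGroup.coe_one]; exact hui1))
  set M := (b * b : S).1 with hM
  have e1 : M * (SL2Inv.w : S).1 = (SL2Inv.w : S).1 * M := by
    rw [hM, ← Matrix.SpecialLinearGroup.coe_mul, ← Matrix.SpecialLinearGroup.coe_mul, hw1.eq]
  have e2 : u.1 * M * ui.1 * (SL2Inv.w : S).1 = (SL2Inv.w : S).1 * (u.1 * M * ui.1) := by
    rw [hM, ← hui]
    simp only [← Matrix.SpecialLinearGroup.coe_mul]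
    rw [hw2.eq]
  have p1 := congrFun (congrFun e1 0) 0
  have p2 := congrFun (congrFun e1 0) 1
  have q2 := congrFun (congrFun e2 0) 1
  simp [u, ui, SL2Inv.w, Matrix.mul_apply, Fin.sum_univ_two, Matrix.vecMul, dotProduct] at p1 p2 q2
  have h10 : M 1 0 = 0 := by
    have : (2 : F) * M 1 0 = 0 := by linear_combination -q2 - p2
    exact (mul_eq_zero.1 this).resolve_left h2
  have hbb : b * b ∈ Subgroup.center S := by
    refine SL2Orders.mem_center_of_scalar (b * b) (M 0 0) ?_
    rw [← hM]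
    ext i j
    fin_cases i <;> fin_cases j <;> simp <;>
      first | linear_combination h10 | linear_combination p1 - h10 | linear_combination p2 | linear_combination -p2
  rcases SL2Inv.mem_center_iff.1 hbb with e | e
  · exact SL2Inv.mem_center_iff.2 (SL2Inv.eq_or_eq_negOne_of_mul_self h2 e)
  · exact hD (Subgroup.mem_inf.2 ⟨hT b ((SL2Inv.mul_self_eq_negOne_iff b).1 e), hb⟩)

/-- Sign-commuting subgroups generating SL_2: one of them is central. -/
theorem indecomposable (h2 : (2 : F) ≠ 0) (A B : Subgroup S) (hAc : Subgroup.center S ≤ A)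
    (hBc : Subgroup.center S ≤ B)
    (hc : ∀ a ∈ A, ∀ b ∈ B, a * b * a⁻¹ * b⁻¹ ∈ Subgroup.center S) (hgen : A ⊔ B = ⊤) :
    A ≤ Subgroup.center S ∨ B ≤ Subgroup.center S := by
  have hA : A.Normal := by
    rw [← Subgroup.normalizer_eq_top_iff, ← top_le_iff, ← hgen]
    refine sup_le Subgroup.le_normalizer fun b hb => Subgroup.mem_normalizer_iff.2 fun a => ?_
    have key : ∀ a ∈ A, ∀ b ∈ B, b * a * b⁻¹ ∈ A := fun a ha b hb => by
      have h := mul_mem (inv_mem (hAc (hc a ha b hb))) ha
      simpa [mul_assoc] using h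
    refine ⟨fun ha => key a ha b hb, fun ha => ?_⟩
    have := key _ ha b⁻¹ (inv_mem hb)
    simpa [mul_assoc] using this
  have hB : B.Normal := by
    rw [← Subgroup.normalizer_eq_top_iff, ← top_le_iff, ← hgen]
    refine sup_le (fun a ha => Subgroup.mem_normalizer_iff.2 fun b => ?_) Subgroup.le_normalizer
    have key : ∀ a ∈ A, ∀ b ∈ B, a * b * a⁻¹ ∈ B := fun a ha b hb => by
      have h := mul_mem (hBc (hc a ha b hb)) hb
      simpa [mul_assoc] using h
    refine ⟨fun hb => key a ha b hb, fun hb => ?_⟩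
    have := key a⁻¹ (inv_mem ha) _ hb
    simpa [mul_assoc] using this
  haveI := hA
  haveI := hB
  have hprod : ∀ g : S, ∃ a ∈ A, ∃ b ∈ B, a * b = g := fun g =>
    Subgroup.mem_sup_of_normal_left.1 (hgen ▸ Subgroup.mem_top g)
  have hD : A ⊓ B ≤ Subgroup.center S := by
    intro d hd
    refine mem_center_of_sign h2 fun g => ?_
    obtain ⟨a, ha, b, hb, rfl⟩ := hprod g
    have h1 : d * b * d⁻¹ * b⁻¹ ∈ Subgroup.center S := hc d hd.1 b hb
    have h3 : d * a * d⁻¹ * a⁻¹ ∈ Subgroup.center S := by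
      have := inv_mem (hc a ha d hd.2)
      simpa [mul_assoc] using this
    have := mul_mem h3 (((inferInstance : (Subgroup.center S).Normal)).conj_mem _ h1 a)
    simpa [mul_assoc] using this
  have hor : ∀ t : S, t.1.trace = 0 → t ∈ A ∨ t ∈ B := by
    intro t ht
    obtain ⟨a, ha, b, hb, hab⟩ := hprod t
    have ht2 : t * t = SL2Inv.negOne := (SL2Inv.mul_self_eq_negOne_iff t).2 ht
    have hz : a * a * (b * b) ∈ Subgroup.center S := by
      have e : a * a * (b * b) = a * (a * b * a⁻¹ * b⁻¹) * a⁻¹ * (t * t) := by rw [← hab]; group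
      rw [e]
      exact mul_mem (((inferInstance : (Subgroup.center S).Normal)).conj_mem _ (hc a ha b hb) a)
        (ht2 ▸ SL2Inv.negOne_mem_center)
    have haB : a * a ∈ B := by
      have := mul_mem (hBc hz) (inv_mem (mul_mem hb hb))
      simpa [mul_assoc] using this
    rcases SL2Inv.mem_center_iff.1 (hD (Subgroup.mem_inf.2 ⟨mul_mem ha ha, haB⟩)) with e | e
    · right
      have hac : a ∈ Subgroup.center S :=
        SL2Inv.mem_center_iff.2 (SL2Inv.eq_or_eq_negOne_of_mul_self h2 e)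
      rw [← hab]; exact mul_mem (hBc hac) hb
    · left
      obtain ⟨h, hh⟩ := SL2Inv.exists_conj h2 a ((SL2Inv.mul_self_eq_negOne_iff a).1 e)
      obtain ⟨k, hk⟩ := SL2Inv.exists_conj h2 t ht
      have : t = (k * h⁻¹) * a * (k * h⁻¹)⁻¹ := by rw [hh, hk]; group
      rw [this]
      exact hA.conj_mem a ha _
  rcases hor _ SL2Inv.trace_w with hw | hw
  · refine Or.inr (le_center_of_trace h2 A B hD hc fun g hg => ?_)
    obtain ⟨k, hk⟩ := SL2Inv.exists_conj h2 g hg
    rw [hk]; exact hA.conj_mem _ hw k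
  · refine Or.inl (le_center_of_trace h2 B A (inf_comm A B ▸ hD) (fun b hb a ha => ?_) fun g hg => ?_)
    · have := inv_mem (hc a ha b hb)
      simpa [mul_assoc] using this
    · obtain ⟨k, hk⟩ := SL2Inv.exists_conj h2 g hg
      rw [hk]; exact hB.conj_mem _ hw k

end Cfsg.Agent.UniqueInvol
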