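import Cfsg.Agent.Lib.Classical.SL2Involutions
import Cfsg.Agent.Lib.Classical.SL2BorelTorus

/-!
Subgroups isomorphic to SL_2 in odd characteristic: involutions and elements of order four.
-/

set_option autoImplicit false

namespace Cfsg.Agent.UniqueInvol

variable {G : Type*} [Group G] {F : Type*} [Field F] [Fintype F]

theorem mem_sup_commute {L M : Subgroup G} (hc : ∀ x ∈ L, ∀ y ∈ M, x * y = y * x) {y : G}
    (hy : y ∈ L ⊔ M) : ∃ p ∈ L, ∃ q ∈ M, p * q = y := by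
  let P : Subgroup G :=
    { carrier := {z | ∃ p ∈ L, ∃ q ∈ M, p * q = z}
      one_mem' := ⟨1, one_mem L, 1, one_mem M, mul_one 1⟩
      mul_mem' := by
        rintro _ _ ⟨p, hp, q, hq, rfl⟩ ⟨p', hp', q', hq', rfl⟩
        exact ⟨p * p', mul_mem hp hp', q * q', mul_mem hq hq',
          (show Commute p' q from hc p' hp' q hq).mul_mul_mul_comm p q'⟩
      inv_mem' := by
        rintro _ ⟨p, hp, q, hq, rfl⟩
        exact ⟨p⁻¹, inv_mem hp, q⁻¹, inv_mem hq, by rw [hc _ (inv_mem hp) _ (inv_mem hq), mul_inv_rev]⟩ }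
  have h1 : L ≤ P := fun p hp => ⟨p, hp, 1, one_mem M, mul_one p⟩
  have h2 : M ≤ P := fun q hq => ⟨1, one_mem L, q, hq, one_mul q⟩
  exact sup_le h1 h2 hy

/-- The involution and the square roots of it. -/
theorem sl2_sub (hF : Odd (Fintype.card F)) (L : Subgroup G)
    (e : ↥L ≃* Matrix.SpecialLinearGroup (Fin 2) F) {j : G} (hj : orderOf j = 2) (hjL : j ∈ L) :
    (∀ x ∈ L, x * x = 1 → x = 1 ∨ x = j) ∧ (∀ x ∈ L, x * j = j * x) ∧
      ∃ a ∈ L, a * a = j ∧ a ≠ 1 ∧ a ≠ j ∧ ∀ x ∈ L, x * x = j → ∃ h ∈ L, x = h * a * h⁻¹ := by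
  have h2 : (2 : F) ≠ 0 := SL2BorelTorus.two_ne_zero_of_odd_card hF
  have hj1 : j ≠ 1 := fun h => by rw [h, orderOf_one] at hj; omega
  have hjj : j * j = 1 := by rw [← pow_two, ← hj, pow_orderOf_eq_one]
  have hej : e ⟨j, hjL⟩ = SL2Inv.negOne := by
    refine (SL2Inv.eq_or_eq_negOne_of_mul_self h2 (by rw [← map_mul]; exact (congrArg e (Subtype.ext hjj : (⟨j, hjL⟩ * ⟨j, hjL⟩ : L) = 1)).trans (map_one e))).resolve_left ?_
    intro h
    rw [← map_one e] at h
    exact hj1 (congrArg Subtype.val (e.injective h))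
  refine ⟨fun x hx hxx => ?_, fun x hx => ?_, (e.symm SL2Inv.w : L), SetLike.coe_mem _, ?_, ?_, ?_, fun x hx hxx => ?_⟩
  · have h1 : e ⟨x, hx⟩ * e ⟨x, hx⟩ = 1 := by
      rw [← map_mul]; exact (congrArg e (Subtype.ext hxx : (⟨x, hx⟩ * ⟨x, hx⟩ : L) = 1)).trans (map_one e)
    rcases SL2Inv.eq_or_eq_negOne_of_mul_self h2 h1 with h | h
    · rw [← map_one e] at h; exact Or.inl (congrArg Subtype.val (e.injective h))
    · rw [← hej] at h; exact Or.inr (congrArg Subtype.val (e.injective h))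
  · have h1 : (⟨x, hx⟩ : L) * ⟨j, hjL⟩ = ⟨j, hjL⟩ * ⟨x, hx⟩ := e.injective (by
      rw [map_mul, map_mul, hej, SL2Inv.negOne_comm])
    exact congrArg Subtype.val h1
  · have h1 : e.symm SL2Inv.w * e.symm SL2Inv.w = ⟨j, hjL⟩ := e.injective (by
      rw [map_mul, e.apply_symm_apply, SL2Inv.w_mul_self, hej])
    exact congrArg Subtype.val h1
  · intro h
    have h1 : e.symm SL2Inv.w = 1 := Subtype.ext h
    have h' : (SL2Inv.w : Matrix.SpecialLinearGroup (Fin 2) F) = 1 := by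
      rw [← e.apply_symm_apply SL2Inv.w, h1, map_one]
    have h'' := SL2Inv.w_mul_self (F := F)
    rw [h', one_mul] at h''
    exact SL2Inv.negOne_ne_one h2 h''.symm
  · intro h
    have h1 : e.symm SL2Inv.w = ⟨j, hjL⟩ := Subtype.ext h
    have h' : (SL2Inv.w : Matrix.SpecialLinearGroup (Fin 2) F) = SL2Inv.negOne := by
      rw [← e.apply_symm_apply SL2Inv.w, h1, hej]
    have h'' := SL2Inv.w_mul_self (F := F)
    rw [h', SL2Inv.negOne_mul_self] at h''
    exact SL2Inv.negOne_ne_one h2 h''.symm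
  · have h1 : e ⟨x, hx⟩ * e ⟨x, hx⟩ = SL2Inv.negOne := by
      rw [← map_mul, ← hej]; exact congrArg e (Subtype.ext hxx)
    obtain ⟨h, hh⟩ := SL2Inv.exists_conj h2 _ ((SL2Inv.mul_self_eq_negOne_iff _).1 h1)
    refine ⟨(e.symm h : L), SetLike.coe_mem _, ?_⟩
    have h3 : (⟨x, hx⟩ : L) = e.symm h * e.symm SL2Inv.w * (e.symm h)⁻¹ := by
      rw [← map_inv, ← map_mul, ← map_mul, ← hh, e.symm_apply_apply]
    exact congrArg Subtype.val h3

end Cfsg.Agent.UniqueInvol
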